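import Groth.Agent.ZClosLib.ClosedDepth

/-!
# Extension of homomorphisms across a closed set of depth at least two
-/

set_option autoImplicit false
set_option linter.style.haveILetI false

universe u

open CategoryTheory CategoryTheory.Limits AlgebraicGeometry TopologicalSpace Opposite

namespace Groth.Agent.Hartogs2

variable {X : Scheme.{u}} [IsLocallyNoetherian X] (U : X.Opens)

/-- The complement of an open, as a member of the index of its own Z-closure. -/
def clCompl : ZClos.Cl ((U : Set X)ᶜ) := ⟨⟨(U : Set X)ᶜ, U.2.isClosed_compl⟩, le_refl _⟩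

omit [IsLocallyNoetherian X] in
theorem clCompl_U : (clCompl U).U = U := TopologicalSpace.Opens.ext (compl_compl _)

omit [IsLocallyNoetherian X] in
theorem stableUnderSpecialization_compl : StableUnderSpecialization ((U : Set X)ᶜ) :=
  U.2.isClosed_compl.stableUnderSpecialization

/-- A coherent module of depth at least two off `U` is the direct image of its restriction to `U`. -/
theorem isIso_unit {E : X.Modules} (hE : Coh.IsCoh E)
    (hdepth : ∀ y : X, y ∉ U → (2 : ℕ∞) ≤ LocCoh.depth (X.presheaf.stalk y) (E.presheaf.stalk y)) :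
    IsIso ((Scheme.Modules.restrictAdjunction U.ι).unit.app E) := by
  have hcl : ZClos.IsZClosed ((U : Set X)ᶜ) E := ZClosLib.isIso_of_stalkMap_bijective _ fun x =>
    (ZClosLib.isZClosedAt_iff_depth hE (stableUnderSpecialization_compl U) x).2 fun x' _ hx' => hdepth x' hx'
  have h := ZClosLib.isZClosed_iff_forall_isIso.1 hcl (clCompl U)
  have e := clCompl_U U
  change IsIso ((ZClos.resPushUnit (clCompl U).U).app E) at h
  rw [e] at h
  exact h

/-- The direct image of a restriction has depth at least two off `U`. -/
theorem two_le_depth_push {F : X.Modules} (hF' : Coh.IsCoh ((ZClos.resPush U).obj F)) {x : X} (hx : x ∉ U) :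
    (2 : ℕ∞) ≤ LocCoh.depth (X.presheaf.stalk x) (((ZClos.resPush U).obj F).presheaf.stalk x) := by
  have hcl : ZClos.IsZClosed ((U : Set X)ᶜ) ((ZClos.resPush U).obj F) := by
    refine ZClosLib.isZClosed_iff_forall_isIso.2 fun T => ?_
    have hle : U ≤ T.U := fun y hy hyT => T.2 hyT hy
    exact ZClos.isIso_unit_resPush hle F
  refine (ZClosLib.isZClosedAt_iff_depth hF' (stableUnderSpecialization_compl U) x).1 ?_ x (le_refl _) hx
  haveI : IsIso (ZClos.rhoApp ((U : Set X)ᶜ) ((ZClos.resPush U).obj F)) := hcl
  exact (ConcreteCategory.isIso_iff_bijective _).1 (inferInstanceAs (IsIso ((KFlatLib.stalkAb x).map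
    (ZClos.rhoApp ((U : Set X)ᶜ) ((ZClos.resPush U).obj F)))))

/-- Morphisms into a coherent module of depth at least two off `U` are determined on `U`. -/
theorem restrict_map_bijective {E : X.Modules} (hE : Coh.IsCoh E)
    (hdepth : ∀ y : X, y ∉ U → (2 : ℕ∞) ≤ LocCoh.depth (X.presheaf.stalk y) (E.presheaf.stalk y))
    (F : X.Modules) :
    Function.Bijective (fun φ : F ⟶ E => (Scheme.Modules.restrictFunctor U.ι).map φ) := by
  haveI := isIso_unit U hE hdepth
  let adj := Scheme.Modules.restrictAdjunction U.ι
  have key : (fun φ : F ⟶ E => (Scheme.Modules.restrictFunctor U.ι).map φ) =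
      (adj.homEquiv F _).symm ∘ fun φ => φ ≫ adj.unit.app E := funext fun φ => by
    simp only [Function.comp_apply, Adjunction.homEquiv_counit, Functor.map_comp, Category.assoc]
    erw [adj.left_triangle_components E]
    exact (Category.comp_id _).symm
  rw [key]
  exact (adj.homEquiv F _).symm.bijective.comp
    ⟨fun a b h => (cancel_mono (adj.unit.app E)).1 h, fun g => ⟨g ≫ inv (adj.unit.app E), by simp⟩⟩

end Groth.Agent.Hartogs2
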